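import Cfsg.Agent.Phan.Cover
import Cfsg.Agent.Phan.Main
set_option linter.all false

-- part: H433/CoverConn
section
/-!
# Extending homomorphisms: a version with connected links

As `Phan.Cover.Ctx.Hyp.exists_hom`, with the common neighbour of four points replaced by: the common
neighbourhood of `p` and a non-neighbour `w` is connected.
-/

set_option autoImplicit false

namespace Cfsg.Agent.H433

open Cfsg.Agent.Phan.Cover
open Cfsg.Agent.Phan.Cover.Ctx

variable {M H Ω K A : Type*} [Group M] [Group H] [Group K] [Group A] [MulAction M Ω]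
variable {C : Ctx M H Ω K A}

/-- One step inside the common neighbourhood of `p` and `w`. -/
def Step (adj : Ω → Ω → Prop) (p w : Ω) (u v : Ω) : Prop :=
  adj p u ∧ adj w u ∧ adj p v ∧ adj w v ∧ adj u v

/-- **Extension of homomorphisms.** -/
theorem exists_hom_of_conn (h : C.Hyp)
    (htri : ∀ u v w : Ω, C.adj u v → C.adj u w → C.adj v w → C.Tri u v w)
    (hcommon : ∀ u v : Ω, ∃ y, C.adj u y ∧ C.adj v y)
    (hcommon3 : ∀ u v w : Ω, C.adj v w → ∃ y, C.adj u y ∧ C.adj v y ∧ C.adj w y)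
    (hconn : ∀ w u v : Ω, ¬ C.adj C.p w → C.adj C.p u → C.adj w u → C.adj C.p v → C.adj w v →
      Relation.ReflTransGen (Step C.adj C.p w) u v) :
    ∃ Φ : M →* H, (∀ k, Φ (C.ι k) = C.α k) ∧
      ∀ a, C.adj C.p (C.κ a • C.p) → Φ (C.κ a) = C.φ a := by
  classical
  have hp : C.p = (1 : M × H).1 • C.p := by rw [Prod.fst_one, one_smul]
  -- direct lifts of neighbours of `p`
  have hdir : ∀ u, ∃ x : M × H, C.adj C.p u → x.1 • C.p = u ∧ C.E x := by
    intro u
    by_cases hu : C.adj C.p u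
    · obtain ⟨y, h1, h2⟩ := h.exists_lift (1 : M × H) (v := u) (by rw [← hp]; exact hu)
      rw [inv_one, one_mul] at h2
      exact ⟨y, fun _ => ⟨h1, h2⟩⟩
    · exact ⟨1, fun h' => absurd h' hu⟩
  choose d hd using hdir
  -- two adjacent neighbours of `p`
  have hdd : ∀ u v, C.adj C.p u → C.adj C.p v → C.adj u v → C.E ((d u)⁻¹ * d v) := by
    intro u v hu hv huv
    obtain ⟨a1, a2⟩ := hd u hu
    obtain ⟨b1, b2⟩ := hd v hv
    refine h.close (x := 1) ?_ (by rwa [inv_one, one_mul]) (by rwa [inv_one, one_mul])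
    rw [← hp, a1, b1]
    exact htri _ _ _ hu hv huv
  -- the lift of `w` along a common neighbour of `p` and `w` is independent of the neighbour
  have hs : ∀ w, ∃ x : M × H, x.1 • C.p = w ∧
      ∀ u, C.adj C.p u → C.adj u w → C.E ((d u)⁻¹ * x) := by
    intro w
    by_cases hpw : C.adj C.p w
    · exact ⟨d w, (hd w hpw).1, fun u hu huw => hdd u w hu hpw huw⟩
    obtain ⟨u₀, h1, h2⟩ := hcommon C.p w
    obtain ⟨x, hx1, hx2⟩ := h.exists_lift (d u₀) (v := w) (by rw [(hd u₀ h1).1]; exact h.symm h2)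
    refine ⟨x, hx1, ?_⟩
    intro u hu huw
    have hch := hconn w u₀ u hpw h1 h2 hu (h.symm huw)
    clear huw hu
    induction hch with
    | refl => exact hx2
    | @tail a b hab hstep ih =>
      obtain ⟨s1, s2, s3, s4, s5⟩ := hstep
      refine h.close (x := d a) ?_ (hdd _ _ s1 s3 s5) ih
      rw [(hd a s1).1, (hd b s3).1, hx1]
      exact htri _ _ _ s5 (h.symm s2) (h.symm s4)
  choose s hs1 hs2 using hs
  -- the section preserves adjacency
  have hadj : ∀ w w', C.adj w w' → C.E ((s w)⁻¹ * s w') := by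
    intro w w' hww
    obtain ⟨u, h1, h2, h3⟩ := hcommon3 C.p w w' hww
    refine h.close (x := d u) ?_ (hs2 w u h1 (h.symm h2)) (hs2 w' u h1 (h.symm h3))
    rw [(hd u h1).1, hs1, hs1]
    exact htri _ _ _ (h.symm h2) (h.symm h3) hww
  -- the section at `p`
  obtain ⟨k₀, hk₀⟩ : ∃ k, s C.p = C.kh k := by
    obtain ⟨u, h1, -⟩ := hcommon C.p C.p
    have h2 := hs2 C.p u h1 (h.symm h1)
    have h3 : C.E ((d u)⁻¹ * 1) := by rw [mul_one]; exact h.E_inv (hd u h1).2
    obtain ⟨k, hk⟩ := h.lift_uniq h3 h2 (by rw [← hp, hs1])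
    exact ⟨k, by rw [hk, one_mul]⟩
  -- the group generated by the two graphs
  set D : Subgroup (M × H) := Subgroup.closure ({x | ∃ k, C.kh k = x} ∪
    {x | ∃ a, C.adj C.p (C.κ a • C.p) ∧ C.ah a = x}) with hD
  have hDk : ∀ k, C.kh k ∈ D := fun k => Subgroup.subset_closure (Or.inl ⟨k, rfl⟩)
  have hDa : ∀ a, C.adj C.p (C.κ a • C.p) → C.ah a ∈ D := fun a ha =>
    Subgroup.subset_closure (Or.inr ⟨a, ha, rfl⟩)
  have hstep : ∀ x y : M × H, (∃ k, x = s (x.1 • C.p) * C.kh k) → C.E y →
      ∃ k, x * y = s ((x * y).1 • C.p) * C.kh k := by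
    rintro x y ⟨k, hk⟩ hy
    have h1 : C.E ((s (x.1 • C.p))⁻¹ * (x * y)) := by
      have : (s (x.1 • C.p))⁻¹ * (x * y) = C.kh k * y := by
        nth_rw 2 [hk]
        group
      rw [this]
      exact E_left _ hy
    have h2 : C.adj (x.1 • C.p) ((x * y).1 • C.p) := by
      rw [Prod.fst_mul, mul_smul]
      exact h.inv _ (h.E_adj hy)
    have h3 := hadj _ _ h2
    exact h.lift_uniq h3 h1 (by rw [hs1])
  have hall : ∀ x ∈ D, ∃ k, x = s (x.1 • C.p) * C.kh k := by
    intro x hx
    induction hx using Subgroup.closure_induction_right with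
    | one =>
      refine ⟨k₀⁻¹, ?_⟩
      rw [← hp, hk₀, kh_inv, mul_inv_cancel]
    | mul_right x _ y hy ih =>
      rcases hy with ⟨k, rfl⟩ | ⟨a, ha, rfl⟩
      · obtain ⟨l, hl⟩ := ih
        refine ⟨l * k, ?_⟩
        rw [h.fst_smul, kh_mul, ← mul_assoc, ← hl]
      · exact hstep x _ ih (E_of ha)
    | mul_inv_cancel x _ y hy ih =>
      rcases hy with ⟨k, rfl⟩ | ⟨a, ha, rfl⟩
      · obtain ⟨l, hl⟩ := ih
        refine ⟨l * k⁻¹, ?_⟩
        rw [← kh_inv, h.fst_smul, kh_mul, ← mul_assoc, ← hl]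
      · exact hstep x _ ih (h.E_inv (E_of ha))
  -- `D` is a graph
  have hgraph : ∀ x ∈ D, x.1 = 1 → x.2 = 1 := by
    intro x hx hx1
    obtain ⟨k, hk⟩ := hall x hx
    rw [hx1, one_smul, hk₀, ← kh_mul] at hk
    have h1 : C.ι (k₀ * k) = 1 := by rw [← hx1, hk]; rfl
    have h2 : k₀ * k = 1 := h.inj (by rw [h1, map_one])
    rw [hk, h2, kh_one]
    rfl
  -- `D` projects onto `M`
  have htop := h.closure_eq_top hcommon
  have hex : ∀ m : M, ∃ c : H, (m, c) ∈ D := by
    intro m
    have h1 : m ∈ D.map (MonoidHom.fst M H) := by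
      have : (⊤ : Subgroup M) ≤ D.map (MonoidHom.fst M H) := by
        rw [← htop, Subgroup.closure_le]
        rintro x (⟨k, rfl⟩ | ⟨a, ha, rfl⟩)
        · exact ⟨C.kh k, hDk k, rfl⟩
        · exact ⟨C.ah a, hDa a ha, rfl⟩
      exact this trivial
    obtain ⟨⟨m', c⟩, hd, rfl⟩ := h1
    exact ⟨c, hd⟩
  choose f hf using hex
  have huniq : ∀ m c, (m, c) ∈ D → c = f m := by
    intro m c hmc
    have := hgraph _ (D.mul_mem (D.inv_mem (hf m)) hmc) (by simp)
    simp only [Prod.snd_mul, Prod.snd_inv] at this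
    rw [inv_mul_eq_one] at this
    exact this.symm
  refine ⟨MonoidHom.mk' f ?_, ?_, ?_⟩
  · intro a b
    exact (huniq (a * b) (f a * f b) (D.mul_mem (hf a) (hf b))).symm
  · intro k
    exact (huniq _ _ (hDk k)).symm
  · intro a ha
    exact (huniq _ _ (hDa a ha)).symm

end Cfsg.Agent.H433
end

-- part: H433/Conn
section
/-!
# Connectivity of common neighbourhoods, apexes of triangles (`q ≥ 3`, `q = 4`)
-/

set_option autoImplicit false

namespace Cfsg.Agent.H433

open Matrix Cfsg
open Cfsg.Agent.LieClassical.HermBasic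
open Cfsg.Agent.Phan

variable {F : Type*} [Field F] {q : ℕ} [Fintype F]

/-- a unit vector perpendicular to a vector of nonzero norm -/
theorem exists_unit_perp_of_ne (hF : Fintype.card F = q ^ 2) {n : ℕ} {r : Fin (n + 2) → F}
    (hr : hermForm (n + 2) F q r r ≠ 0) : ∃ x : Pt (n + 2) F q, hermForm (n + 2) F q x.val r = 0 := by
  obtain ⟨μ, hμ0, hμ⟩ := exists_norm_eq_ne hF (herm_self_pow hF r) hr
  obtain ⟨g, hg⟩ := exists_su_map hF (n := n) (u := Pi.single 0 μ) (v := r) (by
    rw [herm_single_left, Pi.single_eq_same, hμ]) (by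
    rw [herm_single_left, Pi.single_eq_same, hμ]; exact hr)
  refine ⟨⟨mat g *ᵥ (Pi.single 1 1), ?_⟩, ?_⟩
  · rw [mat_isom, herm_single_left, Pi.single_eq_same, one_pow, mul_one]
  · change hermForm (n + 2) F q (mat g *ᵥ (Pi.single 1 1)) r = 0
    rw [← hg, mat_isom, herm_single_left, Pi.single_eq_of_ne (by simp), zero_pow_q hF, mul_zero]

/-- a unit vector whose product with `r` has a norm with property `P` -/
theorem exists_unit_P (hF : Fintype.card F = q ^ 2) {n : ℕ} (r : Fin (n + 2) → F) (P : F → Prop)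
    (h0 : P 0) (h1 : ∃ γ : F, γ ≠ 0 ∧ P (γ * γ ^ q)) : ∃ x : Pt (n + 2) F q,
      P (hermForm (n + 2) F q x.val r * hermForm (n + 2) F q x.val r ^ q) := by
  by_cases hr0 : r = 0
  · refine ⟨e0 (n + 1) F q, ?_⟩
    rw [hr0, herm_zero_right hF, zero_mul]
    exact h0
  by_cases hr : hermForm (n + 2) F q r r = 0
  · obtain ⟨γ, hγ0, hγ⟩ := h1
    obtain ⟨x, hx⟩ := exists_unit_of_isotropic hF hr hr0 hγ0
    exact ⟨x, by rw [hx]; exact hγ⟩
  · obtain ⟨x, hx⟩ := exists_unit_perp_of_ne hF hr
    exact ⟨x, by rw [hx, zero_mul]; exact h0⟩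

/-- a unit vector perpendicular to any vector in dimension at least three -/
theorem exists_unit_perp (hF : Fintype.card F = q ^ 2) {n : ℕ} (t : Fin (n + 3) → F) :
    ∃ x : Pt (n + 3) F q, hermForm (n + 3) F q x.val t = 0 := by
  by_cases ht0 : t = 0
  · exact ⟨e0 (n + 2) F q, by rw [ht0, herm_zero_right hF]⟩
  by_cases ht : hermForm (n + 3) F q t t = 0
  swap
  · exact exists_unit_perp_of_ne hF ht
  obtain ⟨y, hy⟩ := exists_unit_of_isotropic hF ht ht0 (one_ne_zero (α := F))
  obtain ⟨k, hk⟩ := exists_su_smul hF (e0 (n + 2) F q) y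
  have hk' : mat k *ᵥ (e0 (n + 2) F q).val = y.val := congrArg Pt.val hk
  set t' := mat k⁻¹ *ᵥ t with ht'
  have htt : mat k *ᵥ t' = t := by
    rw [ht', Matrix.mulVec_mulVec, mat_mul_inv, Matrix.one_mulVec]
  have h0 : t' 0 = 1 := by
    have h1 := hy
    rw [← hk', ← htt, mat_isom, herm_e0_left] at h1
    have h2 := congrArg (fun z => z ^ q) h1
    simpa [pow_q_pow_q hF] using h2
  have hn : hermForm (n + 3) F q t' t' = 0 := by
    rw [← mat_isom k, htt, ht]
  rw [Phan.cons_head_tail t', herm_cons, h0, one_pow, mul_one] at hn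
  have hn' : hermForm (n + 2) F q (fun j => t' j.succ) (fun j => t' j.succ) ≠ 0 := by
    intro h
    rw [h, add_zero] at hn
    exact one_ne_zero hn
  obtain ⟨x, hx⟩ := exists_unit_perp_of_ne hF hn'
  refine ⟨⟨mat k *ᵥ (Fin.cons 0 x.val), ?_⟩, ?_⟩
  · rw [mat_isom, herm_cons, x.norm, zero_mul, zero_add]
  · change hermForm (n + 3) F q (mat k *ᵥ (Fin.cons 0 x.val)) t = 0
    rw [← htt, mat_isom, Phan.cons_head_tail t', herm_cons, hx, zero_mul, zero_add]

/-- a unit vector perpendicular to two adjacent vectors -/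
theorem exists_perp_two (hF : Fintype.card F = q ^ 2) {n : ℕ} (v w : Pt (n + 4) F q)
    (hvw : adj v w) (P : (Fin (n + 2) → F) → Pt (n + 2) F q → Prop)
    (hP : ∀ r, ∃ x, P r x) (u : Fin (n + 4) → F) :
    ∃ (x : Pt (n + 4) F q) (r : Fin (n + 2) → F) (x' : Pt (n + 2) F q),
      hermForm (n + 4) F q v.val x.val = 0 ∧ hermForm (n + 4) F q w.val x.val = 0 ∧
      P r x' ∧ hermForm (n + 4) F q x.val u = hermForm (n + 2) F q x'.val r := by
  obtain ⟨g₁, hg₁⟩ := exists_su_smul hF (e0 (n + 3) F q) v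
  have h1 : adj (e0 (n + 3) F q) (g₁⁻¹ • w) := by
    have := adj_smul g₁⁻¹ hvw
    rwa [← hg₁, inv_smul_smul] at this
  obtain ⟨k, a, hka⟩ := exists_of_adj hF (n := n + 1) _ h1
  set g := g₁ * emb hF 1 (by omega : 1 + (n + 3) ≤ n + 4) k with hg
  have hv : g • e0 (n + 3) F q = v := by rw [hg, mul_smul, emb_one_e0, hg₁]
  have hw : g • emb hF 0 (by omega : 0 + 2 ≤ n + 4) a • e0 (n + 3) F q = w := by
    rw [hg, mul_smul, hka, smul_inv_smul]
  set u' := mat g⁻¹ *ᵥ u with hu'
  have huu : mat g *ᵥ u' = u := by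
    rw [hu', Matrix.mulVec_mulVec, mat_mul_inv, Matrix.one_mulVec]
  set r : Fin (n + 2) → F := fun j => u' j.succ.succ with hr
  obtain ⟨x'', hx''⟩ := hP r
  have hx'n : hermForm (n + 4) F q (Fin.cons 0 (Fin.cons 0 x''.val))
      (Fin.cons 0 (Fin.cons 0 x''.val)) = 1 := by
    rw [herm_cons, herm_cons, x''.norm, zero_mul, zero_add, zero_add]
  set x' : Pt (n + 4) F q := ⟨Fin.cons 0 (Fin.cons 0 x''.val), hx'n⟩ with hx'
  have hisom : ∀ y z : Pt (n + 4) F q, hermForm (n + 4) F q (g • y).val (g • z).val =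
      hermForm (n + 4) F q y.val z.val := fun y z => mat_isom g _ _
  refine ⟨g • x', r, x'', ?_, ?_, hx'', ?_⟩
  · rw [← hv, hisom, hx', herm_e0_left]
    change ((Fin.cons 0 (Fin.cons 0 x''.val) : Fin (n + 4) → F) 0) ^ q = 0
    rw [Fin.cons_zero, zero_pow_q hF]
  · rw [← hw, hisom, emb_zero_e0 hF (n := n + 2), hx']
    change hermForm (n + 4) F q _ (Fin.cons 0 (Fin.cons 0 x''.val)) = 0
    rw [herm_cons, single_zero_eq_cons, herm_cons, zero_pow_q hF, mul_zero, mul_zero, zero_add,
      zero_add, herm_zero_left]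
  · rw [← huu, smul_val, mat_isom, hx']
    change hermForm (n + 4) F q (Fin.cons 0 (Fin.cons 0 x''.val)) u' = _
    have hdec : u' = Fin.cons (u' 0) (Fin.cons (u' 1) r) := by
      conv_lhs => rw [Phan.cons_head_tail u', Phan.cons_head_tail (fun j => u' (Fin.succ j))]
      rfl
    conv_lhs => rw [hdec]
    rw [herm_cons, herm_cons, zero_mul, zero_mul, zero_add, zero_add]

theorem exists_perp_two_P (hF : Fintype.card F = q ^ 2) {n : ℕ} (v w u : Pt (n + 4) F q)
    (hvw : adj v w) (P : F → Prop)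
    (h0 : P 0) (h1 : ∃ γ : F, γ ≠ 0 ∧ P (γ * γ ^ q)) :
    ∃ x : Pt (n + 4) F q,
      hermForm (n + 4) F q v.val x.val = 0 ∧ hermForm (n + 4) F q w.val x.val = 0 ∧
      P (hermForm (n + 4) F q x.val u.val * hermForm (n + 4) F q x.val u.val ^ q) := by
  obtain ⟨x, r, x', a, b, c, d⟩ := exists_perp_two hF v w hvw
    (fun r x' => P (hermForm (n + 2) F q x'.val r * hermForm (n + 2) F q x'.val r ^ q))
    (fun r => exists_unit_P hF r P h0 h1) u.val
  exact ⟨x, a, b, by rw [d]; exact c⟩

/-- counting norms -/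
theorem exists_norm_avoid (hF : Fintype.card F = q ^ 2) (S : Finset F)
    (hS : 1 + S.card * (q + 1) < q ^ 2) : ∃ γ : F, γ ≠ 0 ∧ γ * γ ^ q ∉ S := by
  classical
  have hbad : ∀ c : F, (Finset.univ.filter fun y : F => y * y ^ q = c).card ≤ q + 1 := by
    intro c
    by_cases hc0 : c = 0
    · subst hc0
      have : (Finset.univ.filter fun y : F => y * y ^ q = 0) ⊆ {0} := by
        intro y hy
        simp only [Finset.mem_filter, Finset.mem_univ, true_and] at hy
        rw [Finset.mem_singleton]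
        exact (norm_eq_zero hF).1 hy
      have := Finset.card_le_card this
      rw [Finset.card_singleton] at this
      omega
    · by_cases hc : c ^ q = c
      · rw [← card_norm_eq hF hc hc0, Nat.card_eq_fintype_card, Fintype.card_subtype]
      · have : (Finset.univ.filter fun y : F => y * y ^ q = c) = ∅ := by
          apply Finset.filter_false_of_mem
          intro y _ hy
          apply hc
          rw [← hy, norm_pow_q hF]
        rw [this, Finset.card_empty]
        omega
  have hlt : ({0} ∪ S.biUnion (fun c => Finset.univ.filter fun y : F => y * y ^ q = c)).card <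
      (Finset.univ : Finset F).card := by
    rw [Finset.card_univ, hF]
    calc ({0} ∪ S.biUnion (fun c => Finset.univ.filter fun y : F => y * y ^ q = c)).card
        ≤ ({0} : Finset F).card +
          (S.biUnion (fun c => Finset.univ.filter fun y : F => y * y ^ q = c)).card :=
          Finset.card_union_le _ _
      _ ≤ 1 + S.card * (q + 1) := by
          rw [Finset.card_singleton]
          gcongr
          exact Finset.card_biUnion_le_card_mul _ _ _ (fun c _ => hbad c)
      _ < q ^ 2 := hS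
  obtain ⟨γ, -, hγ⟩ := Finset.exists_mem_notMem_of_card_lt_card hlt
  simp only [Finset.mem_union, Finset.mem_singleton, Finset.mem_biUnion, Finset.mem_filter,
    Finset.mem_univ, true_and, not_or, not_exists, not_and] at hγ
  exact ⟨γ, hγ.1, fun h => hγ.2 _ h rfl⟩

/-- a common neighbour of three vectors, two of them adjacent -/
theorem exists_common_three (hF : Fintype.card F = q ^ 2) (hq : 3 ≤ q) {n : ℕ}
    (u v w : Pt (n + 4) F q) (hvw : adj v w) : ∃ y, adj u y ∧ adj v y ∧ adj w y := by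
  classical
  obtain ⟨γ, hγ0, hγ⟩ := exists_norm_avoid hF {(1 : F)} (by
    rw [Finset.card_singleton]; nlinarith)
  rw [Finset.mem_singleton] at hγ
  obtain ⟨x, h1, h2, h3⟩ := exists_perp_two_P hF v w u hvw (fun t => t ≠ 1) zero_ne_one
    ⟨γ, hγ0, hγ⟩
  refine ⟨x, ?_, ?_, ?_⟩
  · apply adj_symm
    rw [adj, herm_swap hF x.val u.val]
    exact h3
  · rw [adj, h1, zero_mul]; exact zero_ne_one
  · rw [adj, h2, zero_mul]; exact zero_ne_one

end Cfsg.Agent.H433
end

-- part: H433/Link
section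
/-!
# The common neighbourhood of two non-adjacent vectors is connected (`q ≥ 3`, dimension `≥ 4`)
-/

set_option autoImplicit false

namespace Cfsg.Agent.H433

open Matrix Cfsg
open Cfsg.Agent.LieClassical.HermBasic
open Cfsg.Agent.Phan

variable {F : Type*} [Field F] {q : ℕ} [Fintype F]

omit [Fintype F] in
theorem step_symm {n : ℕ} {p w u v : Pt n F q} (h : Step adj p w u v) : Step adj p w v u :=
  ⟨h.2.2.1, h.2.2.2.1, h.1, h.2.1, adj_symm h.2.2.2.2⟩

omit [Fintype F] in
theorem chain_symm {n : ℕ} {p w u v : Pt n F q} (h : Relation.ReflTransGen (Step adj p w) u v) :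
    Relation.ReflTransGen (Step adj p w) v u := by
  induction h with
  | refl => exact Relation.ReflTransGen.refl
  | tail _ h2 ih => exact Relation.ReflTransGen.head (step_symm h2) ih

/-- a splitting of the norm one -/
theorem exists_split (hF : Fintype.card F = q ^ 2) (hq : 3 ≤ q) :
    ∃ a b : F, a * a ^ q + b * b ^ q = 1 ∧ a * a ^ q ≠ 1 ∧ b * b ^ q ≠ 1 := by
  classical
  obtain ⟨a, ha0, ha⟩ := exists_norm_avoid hF {(1 : F)} (by
    rw [Finset.card_singleton]; nlinarith)
  rw [Finset.mem_singleton] at ha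
  obtain ⟨b, hb⟩ := exists_norm_eq hF (c := 1 - a * a ^ q) (by
    rw [sub_pow_q hF, one_pow, norm_pow_q hF])
  refine ⟨a, b, by rw [hb]; ring, ha, ?_⟩
  rw [hb]
  intro h
  apply ha0
  rw [← norm_eq_zero hF]
  linear_combination -h

theorem link_connected (hF : Fintype.card F = q ^ 2) (hq : 3 ≤ q) {n : ℕ}
    (p w u v : Pt (n + 4) F q) (hpw : ¬ adj p w) (hpu : adj p u) (hwu : adj w u) (hpv : adj p v)
    (hwv : adj w v) : Relation.ReflTransGen (Step adj p w) u v := by
  classical
  set c := hermForm (n + 4) F q w.val p.val with hc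
  have hcp : hermForm (n + 4) F q p.val w.val = c ^ q := by rw [herm_swap hF w.val p.val]
  have hcc : c * c ^ q = 1 := by
    by_contra h
    apply hpw
    rw [adj, ← hc, hcp, mul_comm]
    exact h
  set r := w.val - c • p.val with hr
  have hw : w.val = c • p.val + r := by rw [hr]; abel
  have hrp : hermForm (n + 4) F q r p.val = 0 := by
    rw [hr, herm_sub_left, herm_smul_left, p.norm, mul_one, ← hc, sub_self]
  have hpr : hermForm (n + 4) F q p.val r = 0 := herm_eq_zero_swap hF hrp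
  have hrr : hermForm (n + 4) F q r r = 0 := by
    have h1 := w.norm
    rw [hw, herm_add_left, herm_add_right hF, herm_add_right hF, herm_smul_left, herm_smul_left,
      herm_smul_right, herm_smul_right, hrp, hpr, p.norm] at h1
    linear_combination h1 - hcc
  -- adjacency to `w` of a vector perpendicular to `r`
  have hadjw : ∀ x : Pt (n + 4) F q, hermForm (n + 4) F q x.val r = 0 → adj p x → adj w x := by
    intro x hx hpx
    have hx' : hermForm (n + 4) F q r x.val = 0 := herm_eq_zero_swap hF hx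
    intro h
    apply hpx
    rw [hw, herm_add_left, herm_add_right hF, herm_smul_left, herm_smul_right, hx, hx'] at h
    rw [← h]
    linear_combination (-hermForm (n + 4) F q p.val x.val * hermForm (n + 4) F q x.val p.val) * hcc
  by_cases hr0 : r = 0
  · -- `w` is a multiple of `p`
    obtain ⟨x, hx1, hx2, hx3⟩ := exists_common_three hF hq v p u hpu
    have hwx : adj w x := hadjw x (by rw [hr0, herm_zero_right hF]) hx2
    exact (Relation.ReflTransGen.single ⟨hpu, hwu, hx2, hwx, hx3⟩).trans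
      (Relation.ReflTransGen.single ⟨hx2, hwx, hpv, hwv, adj_symm hx1⟩)
  -- the vectors perpendicular to `p` and `w`
  obtain ⟨a, b, hab, ha1, hb1⟩ := exists_split hF hq
  have hperp : ∀ m : Pt (n + 4) F q, hermForm (n + 4) F q m.val p.val = 0 →
      hermForm (n + 4) F q m.val r = 0 → adj p m ∧ adj w m := by
    intro m h1 h2
    have h3 : adj p m := by rw [adj, h1, mul_zero]; exact zero_ne_one
    exact ⟨h3, hadjw m h2 h3⟩
  have claimB : ∀ m m' : Pt (n + 4) F q, hermForm (n + 4) F q m.val p.val = 0 →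
      hermForm (n + 4) F q m.val r = 0 → hermForm (n + 4) F q m'.val p.val = 0 →
      hermForm (n + 4) F q m'.val r = 0 → Relation.ReflTransGen (Step adj p w) m m' := by
    intro m m' h1 h2 h1' h2'
    by_cases hmm : adj m m'
    · exact Relation.ReflTransGen.single ⟨(hperp m h1 h2).1, (hperp m h1 h2).2,
        (hperp m' h1' h2').1, (hperp m' h1' h2').2, hmm⟩
    -- `x = a p + b m`
    have hpm : hermForm (n + 4) F q p.val m.val = 0 := herm_eq_zero_swap hF h1
    have hpm' : hermForm (n + 4) F q p.val m'.val = 0 := herm_eq_zero_swap hF h1'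
    have hxn : hermForm (n + 4) F q (a • p.val + b • m.val) (a • p.val + b • m.val) = 1 := by
      rw [herm_add_left, herm_add_right hF, herm_add_right hF, herm_smul_left, herm_smul_left,
        herm_smul_left, herm_smul_left, herm_smul_right, herm_smul_right, herm_smul_right,
        herm_smul_right, h1, hpm, p.norm, m.norm]
      linear_combination hab
    set x : Pt (n + 4) F q := ⟨a • p.val + b • m.val, hxn⟩ with hx
    have hxv : x.val = a • p.val + b • m.val := rfl
    have hxp : hermForm (n + 4) F q x.val p.val = a := by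
      rw [hxv, herm_add_left, herm_smul_left, herm_smul_left, p.norm, h1]; ring
    have hxr : hermForm (n + 4) F q x.val r = 0 := by
      rw [hxv, herm_add_left, herm_smul_left, herm_smul_left, hpr, h2]; ring
    have hxm : hermForm (n + 4) F q x.val m.val = b := by
      rw [hxv, herm_add_left, herm_smul_left, herm_smul_left, m.norm, hpm]; ring
    have hxm' : hermForm (n + 4) F q x.val m'.val = b * hermForm (n + 4) F q m.val m'.val := by
      rw [hxv, herm_add_left, herm_smul_left, herm_smul_left, hpm']; ring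
    have a1 : adj p x := by
      apply adj_symm
      rw [adj, herm_swap hF x.val p.val, hxp]
      exact ha1
    have a2 : adj w x := hadjw x hxr a1
    have a3 : adj m x := by
      apply adj_symm
      rw [adj, herm_swap hF x.val m.val, hxm]
      exact hb1
    have a4 : adj x m' := by
      rw [adj, herm_swap hF x.val m'.val, hxm']
      have h3 : hermForm (n + 4) F q m.val m'.val * hermForm (n + 4) F q m.val m'.val ^ q = 1 := by
        rw [← herm_swap hF]
        by_contra h
        exact hmm h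
      rw [LieClassical.HermBasic.norm_mul, h3, mul_one]
      exact hb1
    exact (Relation.ReflTransGen.single ⟨(hperp m h1 h2).1, (hperp m h1 h2).2, a1, a2, a3⟩).trans
      (Relation.ReflTransGen.single ⟨a1, a2, (hperp m' h1' h2').1, (hperp m' h1' h2').2, a4⟩)
  -- a vector perpendicular to `p` and `r`
  obtain ⟨m₀, hm₀p, hm₀r⟩ : ∃ m : Pt (n + 4) F q, hermForm (n + 4) F q m.val p.val = 0 ∧
      hermForm (n + 4) F q m.val r = 0 := by
    obtain ⟨g, hg⟩ := exists_su_smul hF (e0 (n + 3) F q) p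
    have hg' : mat g *ᵥ (e0 (n + 3) F q).val = p.val := congrArg Pt.val hg
    set r' := mat g⁻¹ *ᵥ r with hr'
    have hrr' : mat g *ᵥ r' = r := by
      rw [hr', Matrix.mulVec_mulVec, mat_mul_inv, Matrix.one_mulVec]
    obtain ⟨x, hx⟩ := exists_unit_perp hF (n := n) (fun j => r' j.succ)
    refine ⟨⟨mat g *ᵥ (Fin.cons 0 x.val), ?_⟩, ?_, ?_⟩
    · rw [mat_isom, herm_cons, x.norm, zero_mul, zero_add]
    · change hermForm (n + 4) F q (mat g *ᵥ (Fin.cons 0 x.val)) p.val = 0
      rw [← hg', mat_isom, herm_e0_right hF, Fin.cons_zero]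
    · change hermForm (n + 4) F q (mat g *ᵥ (Fin.cons 0 x.val)) r = 0
      rw [← hrr', mat_isom, Phan.cons_head_tail r', herm_cons, hx, zero_mul, zero_add]
  have claimA : ∀ z : Pt (n + 4) F q, adj p z → adj w z → ∃ m : Pt (n + 4) F q,
      hermForm (n + 4) F q m.val p.val = 0 ∧ hermForm (n + 4) F q m.val r = 0 ∧
      Relation.ReflTransGen (Step adj p w) z m := by
    intro z hpz hwz
    by_cases hrz : hermForm (n + 4) F q r z.val = 0
    · have hzr : hermForm (n + 4) F q z.val r = 0 := herm_eq_zero_swap hF hrz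
      set κ := hermForm (n + 4) F q z.val p.val with hκ
      have hκp : hermForm (n + 4) F q p.val z.val = κ ^ q := herm_swap hF _ _
      have hκ1 : κ * κ ^ q ≠ 1 := by
        have := adj_symm hpz
        rwa [adj, hκp, ← hκ] at this
      by_cases hκ0 : κ = 0
      · exact ⟨z, hκ0, hzr, Relation.ReflTransGen.refl⟩
      obtain ⟨ν, hν0, hν⟩ := exists_norm_eq_ne hF (c := 1 - κ * κ ^ q) (by
        rw [sub_pow_q hF, one_pow, norm_pow_q hF]) (sub_ne_zero.2 (Ne.symm hκ1))
      have hνq : ν ^ q ≠ 0 := pow_ne_zero _ hν0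
      have hyn : hermForm (n + 4) F q (z.val - κ • p.val) (z.val - κ • p.val) = ν * ν ^ q := by
        rw [herm_sub_left, herm_sub_right hF, herm_sub_right hF, herm_smul_left, herm_smul_left,
          herm_smul_right, herm_smul_right, p.norm, z.norm, ← hκ, hκp, hν]
        ring
      have hmn : hermForm (n + 4) F q (ν⁻¹ • (z.val - κ • p.val)) (ν⁻¹ • (z.val - κ • p.val)) =
          1 := by
        rw [herm_smul_left, herm_smul_right, hyn, inv_pow]
        field_simp
      set m : Pt (n + 4) F q := ⟨ν⁻¹ • (z.val - κ • p.val), hmn⟩ with hm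
      have hmv : m.val = ν⁻¹ • (z.val - κ • p.val) := rfl
      have h1 : hermForm (n + 4) F q m.val p.val = 0 := by
        rw [hmv, herm_smul_left, herm_sub_left, herm_smul_left, p.norm, ← hκ]; ring
      have h2 : hermForm (n + 4) F q m.val r = 0 := by
        rw [hmv, herm_smul_left, herm_sub_left, herm_smul_left, hpr, hzr]; ring
      refine ⟨m, h1, h2, Relation.ReflTransGen.single ⟨hpz, hwz, (hperp m h1 h2).1,
        (hperp m h1 h2).2, ?_⟩⟩
      have hzm : hermForm (n + 4) F q z.val m.val = ν := by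
        rw [hmv, herm_smul_right, herm_sub_right hF, herm_smul_right, z.norm, ← hκ, inv_pow]
        have : 1 - κ ^ q * κ = ν * ν ^ q := by rw [hν]; ring
        rw [this]
        field_simp
      rw [adj, herm_swap hF z.val m.val, hzm, hν]
      intro h
      apply hκ0
      rw [← norm_eq_zero hF]
      linear_combination -h
    · have hrm : hermForm (n + 4) F q r m₀.val = 0 := herm_eq_zero_swap hF hm₀r
      obtain ⟨s, -, m, hm, hmz⟩ := exists_move hF m₀ hrr hrm {z} ∅ (by
        intro b hb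
        rw [Finset.mem_singleton] at hb
        rw [hb]
        exact Or.inl hrz) (by
        rw [Finset.card_singleton, Finset.card_empty]
        nlinarith)
      have h1 : hermForm (n + 4) F q m.val p.val = 0 := by
        rw [hm, herm_add_left, herm_smul_left, hm₀p, hrp]; ring
      have h2 : hermForm (n + 4) F q m.val r = 0 := by
        rw [hm, herm_add_left, herm_smul_left, hm₀r, hrr]; ring
      exact ⟨m, h1, h2, Relation.ReflTransGen.single ⟨hpz, hwz, (hperp m h1 h2).1,
        (hperp m h1 h2).2, adj_symm (hmz z (Finset.mem_singleton_self z))⟩⟩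
  obtain ⟨m, h1, h2, h3⟩ := claimA u hpu hwu
  obtain ⟨m', h1', h2', h3'⟩ := claimA v hpv hwv
  exact (h3.trans (claimB m m' h1 h2 h1' h2')).trans (chain_symm h3')

end Cfsg.Agent.H433
end

-- part: H433/Step
section
/-!
# The inductive step of Phan's theorem for `q ≥ 3`, given apexes
-/

set_option autoImplicit false

namespace Cfsg.Agent.H433

open Matrix Cfsg
open Cfsg.Agent.LieClassical.HermBasic
open Cfsg.Agent.Phan
open Cfsg.Agent.Phan.Cover

variable {F : Type*} [Field F] {q : ℕ} [Fintype F]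

omit [Fintype F] in
/-- The apex of a good cone over the triangle `v, w, u`, perpendicular to `v`, `w`. -/
def Apex {n : ℕ} (v w u : Pt n F q) : Prop :=
  ∃ x : Pt n F q, hermForm n F q v.val x.val = 0 ∧
      hermForm n F q w.val x.val = 0 ∧ adj u x ∧
      hermForm n F q u.val v.val * hermForm n F q v.val u.val +
        hermForm n F q u.val x.val * hermForm n F q x.val u.val ≠ 1 ∧
      hermForm n F q u.val w.val * hermForm n F q w.val u.val +
        hermForm n F q u.val x.val * hermForm n F q x.val u.val ≠ 1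

/-- **The inductive step.** -/
theorem exists_extension_of_apex (hF : Fintype.card F = q ^ 2) (hq : 3 ≤ q) (n : ℕ)
    (hapex : ∀ v w u : Pt (n + 4) F q, adj v w → adj v u → adj w u →
      Apex v w u ∨ Apex v u w ∨ Apex w u v) {H : Type*} [Group H]
    (α : SU (n + 3) F q →* H) (γ : SU 3 F q →* H)
    (hα : ∀ x : SU 2 F q, γ (emb hF 1 (by omega) x) = α (emb hF 0 (by omega) x))
    (hc : ∀ (c : SU (n + 2) F q) (a : SU 2 F q),
      α (emb hF 1 (by omega) c) * γ (emb hF 0 (by omega) a) =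
        γ (emb hF 0 (by omega) a) * α (emb hF 1 (by omega) c)) :
    ∃ Φ : SU (n + 4) F q →* H, (∀ x : SU (n + 3) F q, Φ (emb hF 1 (by omega) x) = α x) ∧
      ∀ x : SU 3 F q, Φ (emb hF 0 (by omega) x) = γ x := by
  set φ : SU 2 F q →* H := γ.comp (emb hF 0 (by omega)) with hφ
  have hφa : ∀ a, φ a = γ (emb hF 0 (by omega) a) := fun a => rfl
  -- relations between the embeddings
  have r1 : ∀ t : SU 2 F q, emb hF 1 (by omega : 1 + (n + 3) ≤ n + 4)
      (emb hF 0 (by omega : 0 + 2 ≤ n + 3) t) =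
      emb hF 0 (by omega : 0 + 3 ≤ n + 4) (emb hF 1 (by omega : 1 + 2 ≤ 3) t) := by
    intro t
    rw [emb_emb, emb_emb]
  have r2 : ∀ a : SU 2 F q, emb hF 0 (by omega : 0 + 2 ≤ n + 4) a =
      emb hF 0 (by omega : 0 + 3 ≤ n + 4) (emb hF 0 (by omega : 0 + 2 ≤ 3) a) := by
    intro a
    rw [emb_emb]
  have r3 : ∀ (c : SU (n + 2) F q) (a : SU 2 F q),
      emb hF 1 (by omega : 1 + (n + 3) ≤ n + 4) (emb hF 1 (by omega : 1 + (n + 2) ≤ n + 3) c) *
        emb hF 0 (by omega : 0 + 2 ≤ n + 4) a =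
      emb hF 0 (by omega : 0 + 2 ≤ n + 4) a *
        emb hF 1 (by omega : 1 + (n + 3) ≤ n + 4)
          (emb hF 1 (by omega : 1 + (n + 2) ≤ n + 3) c) := by
    intro c a
    rw [emb_emb, emb_comm]
    right
    omega
  have hyp : (ctx hF (n + 1) α φ).Hyp := by
    refine ctx_hyp hF (n + 1) α φ ?_
    intro k a b ha e
    obtain ⟨t, c, hk, e3⟩ := decomp_of_map hF k a b ha e
    have hfix : ((emb hF 0 (by omega : 0 + 2 ≤ 3) b)⁻¹ * (emb hF 1 (by omega : 1 + 2 ≤ 3) t *
        emb hF 0 (by omega : 0 + 2 ≤ 3) a)) • e0 2 F q = e0 2 F q := by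
      rw [mul_smul, mul_smul, e3, inv_smul_smul]
    obtain ⟨d, hd⟩ := exists_emb_of_fix hF _ hfix
    have hd' : emb hF 1 (by omega : 1 + 2 ≤ 3) t * emb hF 0 (by omega : 0 + 2 ≤ 3) a =
        emb hF 0 (by omega : 0 + 2 ≤ 3) b * emb hF 1 (by omega : 1 + 2 ≤ 3) d := by
      rw [hd, mul_inv_cancel_left]
    refine ⟨emb hF 0 (by omega) d * emb hF 1 (by omega) c, ?_, ?_⟩
    · rw [hk, map_mul, map_mul, mul_assoc, r3, ← mul_assoc, ← mul_assoc, r1, r1, r2 a, r2 b,
        ← map_mul, ← map_mul, hd']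
    · rw [hk, map_mul, map_mul, hφa, hφa, mul_assoc, hc, ← mul_assoc, ← mul_assoc, ← hα, ← hα,
        ← map_mul, ← map_mul, hd']
  -- the third subgroup
  have hB : ∀ b : SU 3 F q, adj (e0 (n + 3) F q)
      (emb hF 0 (by omega : 0 + 3 ≤ n + 4) b • e0 (n + 3) F q) →
      (ctx hF (n + 1) α φ).E (emb hF 0 (by omega : 0 + 3 ≤ n + 4) b, γ b) := by
    intro b hb
    have hb3 := adj_emb_three hF b hb
    obtain ⟨k, a, hka⟩ := exists_of_adj hF (n := 0) _ hb3
    have hfix : ((emb hF 1 (by omega : 1 + 2 ≤ 3) k * emb hF 0 (by omega : 0 + 2 ≤ 3) a)⁻¹ * b) •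
        e0 2 F q = e0 2 F q := by
      rw [mul_smul, inv_smul_eq_iff, mul_smul]
      exact hka.symm
    obtain ⟨l, hl⟩ := exists_emb_of_fix hF _ hfix
    have hbe : b = emb hF 1 (by omega : 1 + 2 ≤ 3) k * emb hF 0 (by omega : 0 + 2 ≤ 3) a *
        emb hF 1 (by omega : 1 + 2 ≤ 3) l := by
      rw [hl, mul_inv_cancel_left]
    have ha : mat a 1 0 ≠ 0 := by
      rw [← adj_emb_iff hF (n := 1)]
      have h1 := adj_smul (emb hF 1 (by omega : 1 + 2 ≤ 3) k)⁻¹ hb3
      rw [← hka, inv_smul_smul, inv_smul_eq_iff.2 (emb_one_e0 hF k).symm] at h1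
      exact h1
    refine ⟨emb hF 0 (by omega) k, a, emb hF 0 (by omega) l, ?_, ?_⟩
    · exact (adj_emb_iff hF (n := n + 2) a).2 ha
    · refine Prod.ext ?_ ?_
      · change emb hF 0 (by omega : 0 + 3 ≤ n + 4) b =
          emb hF 1 (by omega : 1 + (n + 3) ≤ n + 4) (emb hF 0 (by omega : 0 + 2 ≤ n + 3) k) *
            emb hF 0 (by omega : 0 + 2 ≤ n + 4) a *
            emb hF 1 (by omega : 1 + (n + 3) ≤ n + 4) (emb hF 0 (by omega : 0 + 2 ≤ n + 3) l)
        rw [r1, r1, r2, ← map_mul, ← map_mul, ← hbe]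
      · change γ b = α (emb hF 0 (by omega) k) * φ a * α (emb hF 0 (by omega) l)
        rw [← hα, ← hα, hφa, ← map_mul, ← map_mul, ← hbe]
  -- good triangles
  have hgood : ∀ v x u : Pt (n + 4) F q, hermForm (n + 4) F q v.val x.val = 0 → adj v u →
      adj x u → hermForm (n + 4) F q u.val v.val * hermForm (n + 4) F q v.val u.val +
        hermForm (n + 4) F q u.val x.val * hermForm (n + 4) F q x.val u.val ≠ 1 →
      (ctx hF (n + 1) α φ).Tri v x u := by
    intro v x u hvx hvu hxu hrem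
    obtain ⟨g, x₁, x₂, x₃, h1, h2, h3⟩ := exists_frame hF v x u hvx hrem
    have hadj : adj v x := by
      rw [adj, hvx, zero_mul]
      exact zero_ne_one
    rw [← h1, ← h2, ← h3]
    apply hyp.tri_smul
    refine hyp.tri_of_hom (emb hF 0 (by omega : 0 + 3 ≤ n + 4)) γ hB x₁ x₂ x₃ ?_ ?_ ?_
    · have := adj_smul g⁻¹ hadj
      rw [← h1, ← h2, inv_smul_smul, inv_smul_smul] at this
      exact this
    · have := adj_smul g⁻¹ hvu
      rw [← h1, ← h3, inv_smul_smul, inv_smul_smul] at this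
      exact this
    · have := adj_smul g⁻¹ hxu
      rw [← h2, ← h3, inv_smul_smul, inv_smul_smul] at this
      exact this
  have htri' : ∀ v w u : Pt (n + 4) F q, adj v w → adj v u → adj w u → Apex v w u →
      (ctx hF (n + 1) α φ).Tri v w u := by
    intro v w u hvw hvu hwu hA
    obtain ⟨x, h1, h2, h3, h4, h5⟩ := hA
    have t1 := hgood v x u h1 hvu (adj_symm h3) h4
    have t2 := hgood w x u h2 hwu (adj_symm h3) h5
    have hxw : adj x w := by
      rw [adj, h2, mul_zero]
      exact zero_ne_one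
    have t3 := hgood v x w h1 hvw hxw (by
      rw [h2, zero_mul, add_zero]
      exact adj_symm hvw)
    exact hyp.cone (hyp.tri_swap t3) (hyp.tri_swap t1) (hyp.tri_swap t2)
  have htri : ∀ u v w : Pt (n + 4) F q, adj u v → adj u w → adj v w →
      (ctx hF (n + 1) α φ).Tri u v w := by
    intro v w u hvw hvu hwu
    rcases hapex v w u hvw hvu hwu with h | h | h
    · exact htri' v w u hvw hvu hwu h
    · exact hyp.tri_swap' (htri' v u w hvu hvw (adj_symm hwu) h)
    · exact hyp.tri_swap (hyp.tri_swap' (htri' w u v hwu (adj_symm hvw) (adj_symm hvu) h))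
  obtain ⟨Φ, hΦ1, hΦ2⟩ := exists_hom_of_conn hyp htri (fun u v => exists_common_two hF hq u v)
    (fun u v w h => exists_common_three hF hq u v w h)
    (fun w u v h1 h2 h3 h4 h5 => link_connected hF hq _ w u v h1 h2 h3 h4 h5)
  have hΦ1' : ∀ x : SU (n + 3) F q, Φ (emb hF 1 (by omega) x) = α x := hΦ1
  have hΦ2' : ∀ a : SU 2 F q, Φ (emb hF 0 (by omega) a) = φ a := by
    intro a
    have key : ∀ b : SU 2 F q, mat b 1 0 ≠ 0 → Φ (emb hF 0 (by omega) b) = φ b := by
      intro b hb
      exact hΦ2 b ((adj_emb_iff hF (n := n + 2) b).2 hb)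
    by_cases ha : mat a 1 0 = 0
    · obtain ⟨s, hs1, hs2⟩ := exists_mul_of_zero hF a ha
      have h1 := key _ hs2
      rw [map_mul, map_mul, map_mul, key s hs1] at h1
      exact mul_right_cancel h1
    · exact key a ha
  refine ⟨Φ, hΦ1', ?_⟩
  have hext : Φ.comp (emb hF 0 (by omega : 0 + 3 ≤ n + 4)) = γ := by
    refine hom_ext hF (by omega) 0 ?_ ?_
    · intro x
      change Φ (emb hF 0 (by omega : 0 + 3 ≤ n + 4) (emb hF 1 (by omega : 1 + 2 ≤ 3) x)) = _
      rw [← r1, hΦ1', ← hα]
    · intro x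
      change Φ (emb hF 0 (by omega : 0 + 3 ≤ n + 4) (emb hF 0 (by omega : 0 + 2 ≤ 3) x)) = _
      rw [← r2, hΦ2', hφa]
  intro x
  rw [← hext]
  rfl


end Cfsg.Agent.H433
end

-- part: H433/PhanFour
section
/-!
# Phan's theorem for `q = 4`, hence for all `q ≥ 4`
-/

set_option autoImplicit false

namespace Cfsg.Agent.H433

open Matrix Cfsg
open Cfsg.Agent.LieClassical.HermBasic
open Cfsg.Agent.Phan

variable {F : Type*} [Field F] {q : ℕ} [Fintype F]

/-- the norm of the product of two vectors -/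
def nm {n : ℕ} (u v : Pt n F q) : F := hermForm n F q u.val v.val * hermForm n F q v.val u.val

omit [Fintype F] in
theorem nm_comm {n : ℕ} (u v : Pt n F q) : nm u v = nm v u := mul_comm _ _

theorem nm_eq (hF : Fintype.card F = q ^ 2) {n : ℕ} (u v : Pt n F q) :
    nm u v = hermForm n F q u.val v.val * hermForm n F q u.val v.val ^ q := by
  rw [nm, herm_swap hF u.val v.val]

theorem nm_pow (hF : Fintype.card F = q ^ 2) {n : ℕ} (u v : Pt n F q) :
    nm u v ^ q = nm u v := by
  rw [nm_eq hF, norm_pow_q hF]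

/-- an apex exists if three values in `F_q` are avoided by a norm -/
theorem apex_of (hF : Fintype.card F = q ^ 2) {n : ℕ} (v w u : Pt (n + 4) F q)
    (hvw : adj v w) (hvu : adj v u) (hwu : adj w u)
    (h : ∃ γ : F, γ ≠ 0 ∧ γ * γ ^ q ≠ 1 ∧ γ * γ ^ q ≠ 1 - nm u v ∧ γ * γ ^ q ≠ 1 - nm u w) :
    Apex v w u := by
  obtain ⟨γ, hγ0, hγ⟩ := h
  obtain ⟨x, h1, h2, h3, h4, h5⟩ := exists_perp_two_P hF v w u hvw
    (fun t => t ≠ 1 ∧ t ≠ 1 - nm u v ∧ t ≠ 1 - nm u w)
    ⟨zero_ne_one, (sub_ne_zero.2 (Ne.symm (adj_symm hvu))).symm,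
      (sub_ne_zero.2 (Ne.symm (adj_symm hwu))).symm⟩ ⟨γ, hγ0, hγ⟩
  rw [← nm_eq hF] at h3 h4 h5
  refine ⟨x, h1, h2, ?_, ?_, ?_⟩
  · apply adj_symm; exact h3
  · intro h
    apply h4
    rw [nm_comm x u]
    have : nm u v + nm u x = 1 := h
    linear_combination this
  · intro h
    apply h5
    rw [nm_comm x u]
    have : nm u w + nm u x = 1 := h
    linear_combination this

theorem apex_of_card (hF : Fintype.card F = q ^ 2) (hq : 4 ≤ q) {n : ℕ} (v w u : Pt (n + 4) F q)
    (hvw : adj v w) (hvu : adj v u) (hwu : adj w u)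
    (h : nm u v = nm u w ∨ nm u v = 0 ∨ nm u w = 0) : Apex v w u := by
  classical
  apply apex_of hF v w u hvw hvu hwu
  obtain ⟨S, hS, h1, h2, h3⟩ : ∃ S : Finset F, S.card ≤ 2 ∧ 1 ∈ S ∧ 1 - nm u v ∈ S ∧
      1 - nm u w ∈ S := by
    rcases h with h | h | h
    · exact ⟨{1, 1 - nm u v}, Finset.card_le_two, by simp, by simp, by simp [h]⟩
    · exact ⟨{1, 1 - nm u w}, Finset.card_le_two, by simp, by simp [h], by simp⟩
    · exact ⟨{1, 1 - nm u v}, Finset.card_le_two, by simp, by simp, by simp [h]⟩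
  obtain ⟨γ, hγ0, hγ⟩ := exists_norm_avoid hF S (by
    have : S.card * (q + 1) ≤ 2 * (q + 1) := Nat.mul_le_mul_right _ hS
    nlinarith)
  exact ⟨γ, hγ0, fun e => hγ (e ▸ h1), fun e => hγ (e ▸ h2), fun e => hγ (e ▸ h3)⟩

theorem apex_four (hF : Fintype.card F = q ^ 2) (hq : q = 4) {n : ℕ} (v w u : Pt (n + 4) F q)
    (hvw : adj v w) (hvu : adj v u) (hwu : adj w u) :
    Apex v w u ∨ Apex v u w ∨ Apex w u v := by
  by_contra hcon
  push Not at hcon
  obtain ⟨c1, c2, c3⟩ := hcon
  have e1 : ¬ (nm u v = nm u w ∨ nm u v = 0 ∨ nm u w = 0) := fun h =>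
    c1 (apex_of_card hF (by omega) v w u hvw hvu hwu h)
  have e2 : ¬ (nm w v = nm w u ∨ nm w v = 0 ∨ nm w u = 0) := fun h =>
    c2 (apex_of_card hF (by omega) v u w hvu hvw (adj_symm hwu) h)
  have e3 : ¬ (nm v w = nm v u ∨ nm v w = 0 ∨ nm v u = 0) := fun h =>
    c3 (apex_of_card hF (by omega) w u v hwu (adj_symm hvw) (adj_symm hvu) h)
  rw [nm_comm u w, nm_comm u v] at e1
  rw [nm_comm w v] at e2
  push Not at e1 e2 e3
  have key : ∀ x : F, x ^ q = x → x ≠ 0 → x ≠ 1 → x * x + x + 1 = 0 := by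
    intro x h h0 h1
    rw [hq] at h
    have : x * (x - 1) * (x * x + x + 1) = 0 := by linear_combination h
    rcases mul_eq_zero.1 this with h2 | h2
    · rcases mul_eq_zero.1 h2 with h3 | h3
      · exact absurd h3 h0
      · exact absurd (sub_eq_zero.1 h3) h1
    · exact h2
  have k1 := key (nm v u) (nm_pow hF _ _) e1.2.1 hvu
  have k2 := key (nm w u) (nm_pow hF _ _) e1.2.2 hwu
  have k3 := key (nm v w) (nm_pow hF _ _) e3.2.1 hvw
  have d1 : (nm v u - nm w u) * (nm v u + nm w u + 1) = 0 := by linear_combination k1 - k2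
  have d2 : (nm v u - nm v w) * (nm v u + nm v w + 1) = 0 := by linear_combination k1 - k3
  rcases mul_eq_zero.1 d1 with h | h
  · exact e1.1 (sub_eq_zero.1 h)
  rcases mul_eq_zero.1 d2 with h' | h'
  · exact e3.1 (sub_eq_zero.1 h').symm
  · apply e2.1
    linear_combination h' - h

theorem apex_all (hF : Fintype.card F = q ^ 2) (hq : 4 ≤ q) {n : ℕ} (v w u : Pt (n + 4) F q)
    (hvw : adj v w) (hvu : adj v u) (hwu : adj w u) :
    Apex v w u ∨ Apex v u w ∨ Apex w u v := by
  by_cases h5 : 5 ≤ q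
  · exact Or.inl (exists_apex hF h5 v w u hvw hvu hwu)
  · exact apex_four hF (by omega) v w u hvw hvu hwu

/-- **Phan's theorem**, `q ≥ 4`. -/
theorem exists_hom_of_four_le (hF : Fintype.card F = q ^ 2) (hq : 4 ≤ q) (n : ℕ) {H : Type*}
    [Group H] {φ : ℕ → (SU 2 F q →* H)} {g : ℕ → (SU 3 F q →* H)} (h : System hF (n + 3) φ g) :
    ∃ Φ : SU (n + 3) F q →* H, ∀ (k : ℕ) (hk : k + 3 ≤ n + 3) (x : SU 3 F q),
      Φ (emb hF k hk x) = g k x := by
  induction n generalizing φ g with
  | zero =>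
    refine ⟨g 0, ?_⟩
    intro k hk x
    obtain rfl : k = 0 := by omega
    rw [emb_self]
  | succ n ih =>
    have h' : System hF (n + 3) (fun k => φ (k + 1)) (fun k => g (k + 1)) :=
      ⟨fun k hk a => h.left (k + 1) (by omega) a, fun k hk a => h.right (k + 1) (by omega) a,
        fun i j hij hj a b => h.comm (i + 1) (j + 1) (by omega) (by omega) a b⟩
    obtain ⟨α, hα⟩ := ih h'
    have hαφ : ∀ (j : ℕ) (hj : j + 2 ≤ n + 3) (x : SU 2 F q), α (emb hF j hj x) = φ (j + 1) x := by
      intro j hj x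
      by_cases hj' : j + 3 ≤ n + 3
      · have e : emb hF j hj x = emb hF j hj' (emb hF 0 (by omega : 0 + 2 ≤ 3) x) := by
          rw [emb_emb]
          exact emb_congr hF _ _ (by omega) x
        rw [e, hα, h.left (j + 1) (by omega)]
      · obtain ⟨i, rfl⟩ : ∃ i, j = i + 1 := ⟨j - 1, by omega⟩
        have e : emb hF (i + 1) hj x =
            emb hF i (by omega : i + 3 ≤ n + 3) (emb hF 1 (by omega : 1 + 2 ≤ 3) x) := by
          rw [emb_emb]
        rw [e, hα, h.right (i + 1) (by omega)]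
    obtain ⟨Φ, hΦ1, hΦ2⟩ := exists_extension_of_apex hF (by omega) n
      (fun v w u h1 h2 h3 => apex_all hF hq v w u h1 h2 h3) α (g 0) (by
      intro x
      rw [h.right 0 (by omega), hαφ 0 (by omega)]) (by
      intro c a
      have hc : c ∈ Subgroup.closure {y : SU (n + 2) F q | ∃ (j : ℕ) (h : j + 2 ≤ n + 2)
          (x : SU 2 F q), emb hF j h x = y} := by
        rw [closure_emb_eq_top hF (by omega) n]; trivial
      rw [h.left 0 (by omega)]
      have key : ∀ c ∈ Subgroup.closure {y : SU (n + 2) F q | ∃ (j : ℕ) (h : j + 2 ≤ n + 2)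
          (x : SU 2 F q), emb hF j h x = y}, Commute (α (emb hF 1 (by omega) c)) (φ 0 a) := by
        intro c hc
        induction hc using Subgroup.closure_induction with
        | mem y hy =>
          obtain ⟨j, hj, x, rfl⟩ := hy
          rw [emb_emb, hαφ (1 + j) (by omega)]
          exact (h.comm 0 (1 + j + 1) (by omega) (by omega) a x).symm
        | one => rw [map_one, map_one]; exact Commute.one_left _
        | mul x y _ _ hx hy => rw [map_mul, map_mul]; exact hx.mul_left hy
        | inv x _ hx => rw [map_inv, map_inv]; exact hx.inv_left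
      exact key c hc)
    refine ⟨Φ, ?_⟩
    intro k hk x
    by_cases hk0 : k = 0
    · subst hk0
      exact hΦ2 x
    · obtain ⟨i, rfl⟩ : ∃ i, k = i + 1 := ⟨k - 1, by omega⟩
      have e : emb hF (i + 1) hk x = emb hF 1 (by omega : 1 + (n + 3) ≤ n + 1 + 3)
          (emb hF i (by omega : i + 3 ≤ n + 3) x) := by
        rw [emb_emb]
        exact emb_congr hF _ _ (by omega) x
      rw [e, hΦ1, hα]

end Cfsg.Agent.H433
end
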